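import Cfsg.Agent.Lib.Golay.Mathieu
import Cfsg.Agent.Lib.Golay.SylowTwoCert
import Cfsg.Agent.Lib.Golay.TripleGen.Data

/-!
The computable checks on the witnesses for generation by triples of prime orders.
-/

set_option autoImplicit false

namespace CfsgLib.Golay.TripleGen

open CfsgLib.Golay CfsgLib.Golay.SylowTwo

/-- the product of a word -/
def wordP (l : List ℕ) : List ℕ → ℕ
  | [] => idP
  | k :: w => mulP (l.getD k idP) (wordP l w)

/-- a power by repeated products -/
def pwP (P : ℕ) : ℕ → ℕ
  | 0 => idP
  | k + 1 => mulP P (pwP P k)

/-- the levels of the chain of the point stabiliser -/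
def levels : List Lev := levs24.drop 1

/-- check of the chain generators -/
def baseOK : Bool :=
  base.length == 2 && base.all (fun P => inM24 P && ap P 23 == 23) &&
    levels.all fun L => L.gens.all fun g => chainWords.any fun w =>
      w.1 == g && w.2.all (fun k => decide (k < 2)) && eqP (wordP base w.2) g && validP g

/-- check of one witness -/
def witOK (W : Wit) : Bool :=
  inM24 W.x && ap W.x 23 == 23 && inM24 W.y && ap W.y 23 == 23 &&
    !eqP W.x idP && eqP (pwP W.x W.p) idP && !eqP W.y idP && eqP (pwP W.y W.q) idP &&
    !eqP (mulP W.x W.y) idP && eqP (pwP (mulP W.x W.y) W.r) idP &&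
    W.wa.all (fun k => decide (k < 2)) && W.wb.all (fun k => decide (k < 2)) &&
    eqP (wordP [W.x, W.y] W.wa) (base.getD 0 idP) && eqP (wordP [W.x, W.y] W.wb) (base.getD 1 idP)

/-- the primes dividing the order -/
def primes : List ℕ := [2, 3, 5, 7, 11, 23]

/-- the excluded triples -/
def excluded (p q r : ℕ) : Bool :=
  (p == 2 && q == 3) || (p == 2 && q == 5 && r == 5) || (p == 2 && q == 5 && r == 7) ||
    (p == 3 && q == 3 && decide (r ≤ 7))

/-- every other triple has a witness -/
def coverOK : Bool :=
  primes.all fun p => primes.all fun q => primes.all fun r =>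
    !(decide (p ≤ q) && decide (q ≤ r) && !(p == 2 && q == 2) && !excluded p q r) ||
      wits.any fun W => W.p == p && W.q == q && W.r == r

theorem base_ok : baseOK = true := by decide +kernel

theorem wits_ok : wits.all witOK = true := by decide +kernel

theorem cover_ok : coverOK = true := by decide +kernel

end CfsgLib.Golay.TripleGen
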