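import Mathlib

/-!
The lower bound on the cycle structures of three permutations with product one generating a group
transitive on all points but one.
-/

set_option autoImplicit false

namespace CfsgLib.Golay.TripleGen

variable {α : Type*} [Fintype α] [DecidableEq α]

/-- The permutation representation on rational functions. -/
def act (g : Equiv.Perm α) : (α → ℚ) →ₗ[ℚ] (α → ℚ) := LinearMap.funLeft ℚ ℚ ⇑g⁻¹

theorem act_apply (g : Equiv.Perm α) (v : α → ℚ) (a : α) : act g v a = v (g⁻¹ a) := rfl

theorem act_mul (g h : Equiv.Perm α) (v : α → ℚ) : act (g * h) v = act g (act h v) := rfl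

theorem act_one (v : α → ℚ) : act (1 : Equiv.Perm α) v = v := rfl

/-- The difference map. -/
def dif (g : Equiv.Perm α) : (α → ℚ) →ₗ[ℚ] (α → ℚ) := LinearMap.id - act g

theorem dif_apply (g : Equiv.Perm α) (v : α → ℚ) : dif g v = v - act g v := rfl

/-- Scott: three permutations with product one generating a group transitive away from `o`. -/
theorem scott {x y z : Equiv.Perm α} (hxyz : x * y * z = 1) (o : α) {m : ℕ}
    (hm : Fintype.card α = m + 2)
    (htr : ∀ a b, a ≠ o → b ≠ o → ∃ g ∈ Subgroup.closure ({x, y} : Set (Equiv.Perm α)), g a = b) :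
    2 * m ≤ Module.finrank ℚ (LinearMap.range (dif x)) + Module.finrank ℚ (LinearMap.range (dif y)) +
      Module.finrank ℚ (LinearMap.range (dif z)) := by
  classical
  set A := LinearMap.range (dif x)
  set B := LinearMap.range (dif y)
  set C := LinearMap.range (dif z)
  let δ : (A × B × C) →ₗ[ℚ] (α → ℚ) :=
    A.subtype.coprod (((act x).comp B.subtype).coprod ((act (x * y)).comp C.subtype))
  let β : (α → ℚ) →ₗ[ℚ] (A × B × C) :=
    (dif x).rangeRestrict.prod ((dif y).rangeRestrict.prod (dif z).rangeRestrict)
  have hδ : ∀ p : A × B × C,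
      δ p = (p.1 : α → ℚ) + (act x p.2.1 + act (x * y) p.2.2) := fun p => rfl
  have hcomp : LinearMap.range β ≤ LinearMap.ker δ := by
    rintro _ ⟨v, rfl⟩
    rw [LinearMap.mem_ker, hδ]
    show dif x v + (act x (dif y v) + act (x * y) (dif z v)) = 0
    simp only [dif_apply, map_sub, ← act_mul, hxyz, act_one]
    abel
  -- the kernel of `β` is constant away from `o`
  have hker : Module.finrank ℚ (LinearMap.ker β) ≤ 2 := by
    have hfix : ∀ v ∈ LinearMap.ker β, ∀ a b, a ≠ o → b ≠ o → v a = v b := by
      intro v hv a b ha hb
      rw [LinearMap.mem_ker] at hv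
      have hx : dif x v = 0 := congrArg (fun p : A × B × C => (p.1 : α → ℚ)) hv
      have hy : dif y v = 0 := congrArg (fun p : A × B × C => (p.2.1 : α → ℚ)) hv
      rw [dif_apply, sub_eq_zero] at hx hy
      obtain ⟨g, hg, hgab⟩ := htr a b ha hb
      clear ha hb
      have key : act g v = v := by
        clear hgab
        induction hg using Subgroup.closure_induction with
        | mem w hw => rcases hw with rfl | rfl <;> [exact hx.symm; exact hy.symm]
        | one => exact act_one v
        | mul u w _ _ hu hw => rw [act_mul, hw, hu]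
        | inv u _ hu => conv_lhs => rw [← hu, ← act_mul, inv_mul_cancel, act_one]
      subst hgab
      conv_rhs => rw [← key]
      rw [act_apply]; simp
    haveI : Nonempty {a // a ≠ o} := by
      rw [← Fintype.card_pos_iff, Fintype.card_subtype_compl, Fintype.card_subtype_eq, hm]
      omega
    let a₀ : {a // a ≠ o} := Classical.arbitrary _
    let ev : LinearMap.ker β →ₗ[ℚ] (ℚ × ℚ) :=
      ((LinearMap.proj (a₀ : α)).prod (LinearMap.proj o)).comp (LinearMap.ker β).subtype
    refine le_trans (LinearMap.finrank_le_finrank_of_injective (f := ev) fun v w h => ?_) (by simp)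
    obtain ⟨h1, h2⟩ := Prod.ext_iff.1 h
    refine Subtype.ext (funext fun a => ?_)
    by_cases ha : a = o
    · rw [ha]; exact h2
    · rw [hfix v v.2 a a₀ ha a₀.2, hfix w w.2 a a₀ ha a₀.2]; exact h1
  -- the image of `δ` holds the differences of points other than `o`
  have himg : m ≤ Module.finrank ℚ (LinearMap.range δ) := by
    have hg : ∀ g ∈ Subgroup.closure ({x, y} : Set (Equiv.Perm α)), ∀ v,
        dif g v ∈ LinearMap.range δ := by
      set W := LinearMap.range δ
      have hX : ∀ v, dif x v ∈ W := fun v => ⟨(⟨dif x v, ⟨v, rfl⟩⟩, 0, 0), by simp [hδ]⟩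
      have hXY : ∀ v, act x (dif y v) ∈ W := fun v => ⟨(0, ⟨dif y v, ⟨v, rfl⟩⟩, 0), by simp [hδ]⟩
      intro g hg
      induction hg using Subgroup.closure_induction with
      | mem w hw =>
        rcases hw with rfl | rfl
        · exact hX
        · intro v
          have := W.add_mem (hX (dif w v)) (hXY v)
          simpa [dif_apply] using this
      | one => intro v; simp [dif_apply, act_one]
      | mul u w _ _ hu hw =>
        intro v
        have hstable : ∀ t ∈ W, act u t ∈ W := fun t ht => by
          have := W.sub_mem ht (hu t)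
          rwa [dif_apply, sub_sub_cancel] at this
        have : dif (u * w) v = dif u v + act u (dif w v) := by
          simp only [dif_apply, map_sub, ← act_mul]; abel
        rw [this]
        exact W.add_mem (hu v) (hstable _ (hw v))
      | inv u _ hu =>
        intro v
        have := W.neg_mem (hu (act u⁻¹ v))
        simpa [dif_apply, ← act_mul, act_one] using this
    obtain ⟨a₁, ha₁⟩ : ∃ a, a ≠ o := Fintype.exists_ne_of_one_lt_card (by omega) o
    let u : {a // a ≠ o ∧ a ≠ a₁} → LinearMap.range δ := fun a =>
      ⟨Pi.single (a₁ : α) (1 : ℚ) - Pi.single (a : α) (1 : ℚ), by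
        obtain ⟨g, hgm, hga⟩ := htr a₁ a ha₁ a.2.1
        have := hg g hgm (Pi.single a₁ (1 : ℚ))
        convert this using 2
        rw [dif_apply]
        funext b
        simp only [Pi.sub_apply, act_apply, Pi.single_apply, Equiv.Perm.inv_eq_iff_eq, hga]⟩
    have hli : LinearIndependent ℚ u := by
      rw [Fintype.linearIndependent_iff]
      intro c hc j
      have h := congrArg (fun v : LinearMap.range δ => (v : α → ℚ) j) hc
      simp only [Submodule.coe_sum, Finset.sum_apply, Submodule.coe_smul_of_tower, Pi.smul_apply, u,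
        smul_eq_mul, Pi.sub_apply, Pi.single_apply, j.2.2, if_false, zero_sub, ZeroMemClass.coe_zero,
        Pi.zero_apply] at h
      rw [Finset.sum_eq_single j] at h
      · simpa using h
      · intro b _ hb
        rw [if_neg (fun e => hb (Subtype.ext e.symm))]; simp
      · intro hj; exact absurd (Finset.mem_univ j) hj
    refine le_trans ?_ hli.fintype_card_le_finrank
    rw [Fintype.card_subtype]
    have : (Finset.univ.filter fun a => a ≠ o ∧ a ≠ a₁) = (Finset.univ.erase o).erase a₁ := by
      ext a; simp [and_comm]
    rw [this, Finset.card_erase_of_mem (Finset.mem_erase.2 ⟨ha₁, Finset.mem_univ _⟩),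
      Finset.card_erase_of_mem (Finset.mem_univ o), Finset.card_univ, hm]
    omega
  have h1 := LinearMap.finrank_range_add_finrank_ker β
  have h2 := LinearMap.finrank_range_add_finrank_ker δ
  have h3 := Submodule.finrank_mono hcomp
  rw [Module.finrank_prod, Module.finrank_prod] at h2
  rw [Module.finrank_pi] at h1
  omega

/-- The rank of the difference map of an element of prime order `p`. -/
theorem rank_le {p : ℕ} [Fact p.Prime] {g : Equiv.Perm α} (hg : orderOf g = p) :
    p * Module.finrank ℚ (LinearMap.range (dif g)) ≤
      (p - 1) * (Fintype.card α - (Finset.univ.filter fun a => g a = a).card) := by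
  classical
  have hp : p.Prime := Fact.out
  set F := Finset.univ.filter fun a => g a = a with hF
  have hsupp : g.support.card = Fintype.card α - F.card := by
    rw [← Finset.card_univ, ← Finset.card_sdiff_of_subset (Finset.subset_univ F)]
    congr 1; ext a; simp [hF]
  have hcyc : g.cycleFactorsFinset.card * p = g.support.card := by
    obtain ⟨k, hk⟩ := Equiv.Perm.cycleType_prime_order (σ := g) (by rw [hg]; exact hp)
    rw [← Equiv.Perm.sum_cycleType, hk, Multiset.sum_replicate, smul_eq_mul, hg]
    have : g.cycleType.card = g.cycleFactorsFinset.card := by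
      rw [Equiv.Perm.cycleType_def, Multiset.card_map]; rfl
    rw [← this, hk, Multiset.card_replicate]
  let L : ((F → ℚ) × (g.cycleFactorsFinset → ℚ)) →ₗ[ℚ] (α → ℚ) :=
    { toFun := fun c a => if h : g a = a then c.1 ⟨a, by simp [hF, h]⟩ else
        c.2 ⟨g.cycleOf a, Equiv.Perm.cycleOf_mem_cycleFactorsFinset_iff.2
          (Equiv.Perm.mem_support.2 h)⟩
      map_add' := fun c d => by funext a; by_cases h : g a = a <;> simp [h]
      map_smul' := fun t c => by funext a; by_cases h : g a = a <;> simp [h] }
  have hLapp : ∀ c a, L c a = if h : g a = a then c.1 ⟨a, by simp [hF, h]⟩ else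
      c.2 ⟨g.cycleOf a, Equiv.Perm.cycleOf_mem_cycleFactorsFinset_iff.2
        (Equiv.Perm.mem_support.2 h)⟩ := fun c a => rfl
  have hLker : ∀ c, L c ∈ LinearMap.ker (dif g) := by
    intro c
    rw [LinearMap.mem_ker, dif_apply, sub_eq_zero]
    funext a
    rw [act_apply, hLapp, hLapp]
    by_cases h : g a = a
    · have h' : g⁻¹ a = a := Equiv.Perm.inv_eq_iff_eq.2 h.symm
      simp [h, h']
    · have h' : ¬ g (g⁻¹ a) = g⁻¹ a := fun e => h (by
        have := congrArg g e; simpa using this)
      rw [dif_neg h, dif_neg h']
      congr 2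
      apply congrArg
      apply Subtype.ext
      exact Equiv.Perm.SameCycle.cycleOf_eq ⟨-1, by simp [zpow_neg]⟩
  have hinj : Function.Injective (L.codRestrict _ hLker) := by
    intro c d h
    have h' : L c = L d := congrArg Subtype.val h
    refine Prod.ext (funext fun a => ?_) (funext fun C => ?_)
    · have := congrFun h' a
      have ha : g a = a := (Finset.mem_filter.1 a.2).2
      simpa [hLapp, ha] using this
    · obtain ⟨hC, hCg⟩ := Equiv.Perm.mem_cycleFactorsFinset_iff.1 C.2
      obtain ⟨a, ha⟩ := hC.nonempty_support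
      have hga : g a ≠ a := by rw [← hCg a ha]; exact Equiv.Perm.mem_support.1 ha
      have := congrFun h' a
      rw [hLapp, hLapp, dif_neg hga, dif_neg hga] at this
      have e : (C : Equiv.Perm α) = g.cycleOf a := Equiv.Perm.cycle_is_cycleOf ha C.2
      have e' : C = ⟨g.cycleOf a, Equiv.Perm.cycleOf_mem_cycleFactorsFinset_iff.2
          (Equiv.Perm.mem_support.2 hga)⟩ := Subtype.ext e
      rw [e']; exact this
  have h1 := LinearMap.finrank_le_finrank_of_injective hinj
  have h2 := LinearMap.finrank_range_add_finrank_ker (dif g)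
  rw [Module.finrank_prod, Module.finrank_pi, Module.finrank_pi, Fintype.card_coe,
    Fintype.card_coe] at h1
  rw [Module.finrank_pi] at h2
  have hF' : F.card ≤ Fintype.card α := Finset.card_le_univ F
  have h3 : Module.finrank ℚ (LinearMap.range (dif g)) + g.cycleFactorsFinset.card ≤
      Fintype.card α - F.card := by omega
  rw [← hsupp] at h3 ⊢
  rw [← hcyc] at h3 ⊢
  obtain ⟨q, rfl⟩ : ∃ q, p = q + 1 := ⟨p - 1, by have := hp.pos; omega⟩
  rw [Nat.add_sub_cancel]
  nlinarith

end CfsgLib.Golay.TripleGen
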