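import Cfsg.Agent.Lib.Golay.TripleGen.Check
import Cfsg.Agent.Lib.Golay.TripleGen.Scott
import Cfsg.Agent.Lib.Golay.MathieuFacts
import Cfsg.Agent.Lib.Golay.Classes.Three
import Cfsg.Agent.Lib.Golay.Cocode.Nonsplit

/-!
Generation of the point stabiliser of the group on 24 points by triples of prime orders.
-/

set_option autoImplicit false

namespace CfsgLib.Golay.TripleGen

open Cfsg CfsgLib.Golay CfsgLib.Golay.SylowTwo
open CfsgLib.Golay.Classes (fixSet)

attribute [local irreducible] idP toPerm mulP validP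

theorem m23_eq : Spor.M23 = fixH M24 F23 := by
  ext h
  rw [mem_fix23_iff, show pt 23 = none from if_pos rfl]
  rfl

theorem valid_mem {P : ℕ} (h1 : inM24 P = true) (h2 : ap P 23 = 23) :
    validP P = true ∧ toPerm P ∈ Spor.M23 := by
  refine ⟨?_, Cocode.toPerm_mem_M23 ⟨h1, h2⟩⟩
  simp only [inM24, Bool.and_eq_true] at h1
  exact h1.1

theorem wordP_spec (l : List ℕ) (hl : ∀ P ∈ l, validP P = true)
    {H : Subgroup (Equiv.Perm GolayPt)} (hm : ∀ P ∈ l, toPerm P ∈ H) :
    ∀ w : List ℕ, (∀ k ∈ w, k < l.length) → validP (wordP l w) = true ∧ toPerm (wordP l w) ∈ H := by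
  intro w
  induction w with
  | nil => intro _; exact ⟨validP_idP, by rw [wordP, toPerm_idP]; exact one_mem H⟩
  | cons k w ih =>
    intro h
    simp only [List.mem_cons, forall_eq_or_imp] at h
    have hk : l.getD k idP ∈ l := by
      rw [List.getD_eq_getElem _ _ h.1]; exact List.getElem_mem _
    obtain ⟨h1, h2⟩ := ih h.2
    refine ⟨validP_mulP (hl _ hk) h1, ?_⟩
    rw [wordP, toPerm_mulP (hl _ hk) h1]
    exact mul_mem (hm _ hk) h2

theorem pwP_spec {P : ℕ} (hP : validP P = true) :
    ∀ k, validP (pwP P k) = true ∧ toPerm (pwP P k) = toPerm P ^ k := by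
  intro k
  induction k with
  | zero => exact ⟨validP_idP, by rw [pwP, toPerm_idP, pow_zero]⟩
  | succ k ih => exact ⟨validP_mulP hP ih.1, by rw [pwP, toPerm_mulP hP ih.1, ih.2, pow_succ']⟩

theorem order_of_check {P p : ℕ} (hp : p.Prime) (hP : validP P = true)
    (h1 : eqP P idP = false) (h2 : eqP (pwP P p) idP = true) : orderOf (toPerm P) = p := by
  haveI := Fact.mk hp
  obtain ⟨hv, he⟩ := pwP_spec hP p
  refine orderOf_eq_prime ?_ fun h => ?_
  · rw [← he, toPerm_eq_of_eqP hv validP_idP h2, toPerm_idP]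
  · rw [eqP_of_toPerm_eq hP validP_idP (h.trans toPerm_idP.symm)] at h1
    exact Bool.noConfusion h1

/-- A subgroup of the stabiliser holding the two base elements is the whole stabiliser. -/
theorem eq_of_base {H : Subgroup (Equiv.Perm GolayPt)} (hle : H ≤ Spor.M23)
    (hb : ∀ P ∈ base, toPerm P ∈ H) : H = Spor.M23 := by
  have hbase := base_ok
  simp only [baseOK, Bool.and_eq_true, List.all_eq_true, List.any_eq_true, beq_iff_eq,
    decide_eq_true_eq] at hbase
  obtain ⟨⟨hlen, hbv⟩, hgens⟩ := hbase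
  have hv : ∀ P ∈ base, validP P = true := fun P hP => (valid_mem (hbv P hP).1 (hbv P hP).2).1
  have hC : ∀ L ∈ levs24.drop 1, Carries H [] L.gens := by
    intro L hL
    refine ⟨hle.trans inf_le_left, by simp, fun P hP => ?_⟩
    obtain ⟨w, -, ⟨⟨hw1, hw2⟩, hw3⟩, hPv⟩ := hgens L hL P hP
    obtain ⟨h1, h2⟩ := wordP_spec base hv hb w.2 (fun k hk => hlen.symm ▸ hw2 k hk)
    rw [← toPerm_eq_of_eqP h1 hPv hw3]
    exact h2
  have hcard : Nat.card (fixH H F23) = Nat.card (fixH M24 F23) := by
    rw [natCard_fix23, card_chain (levs24.drop 1) F23 hC (by decide +kernel),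
      fixH_eq_bot_of_stages (hle.trans inf_le_left) (St := stages24) (by decide +kernel),
      Subgroup.card_bot, mul_one]
    decide +kernel
  have hle' : fixH H F23 ≤ fixH M24 F23 := inf_le_inf_right _ (hle.trans inf_le_left)
  have heq := Subgroup.eq_of_le_of_card_ge hle' hcard.ge
  refine le_antisymm hle ?_
  rw [m23_eq, ← heq]
  exact inf_le_left

/-- the witnesses generate -/
theorem exists_triple {p q r : ℕ} (hp : p.Prime) (hq : q.Prime) (hr : r.Prime) {W : Wit}
    (hW : W ∈ wits) (h1 : W.p = p) (h2 : W.q = q) (h3 : W.r = r) :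
    ∃ x y z : Spor.M23, orderOf x = p ∧ orderOf y = q ∧ orderOf z = r ∧ x * y * z = 1 ∧
      Subgroup.closure {x, y} = ⊤ := by
  subst h1 h2 h3
  have h := List.all_eq_true.1 wits_ok W hW
  simp only [witOK, Bool.and_eq_true, List.all_eq_true, beq_iff_eq, decide_eq_true_eq,
    Bool.not_eq_true'] at h
  obtain ⟨⟨⟨⟨⟨⟨⟨⟨⟨⟨⟨⟨⟨hx, hx23⟩, hy⟩, hy23⟩, hx1⟩, hxp⟩, hy1⟩, hyq⟩, hz1⟩, hzr⟩, hwa⟩, hwb⟩, hea⟩, heb⟩ := h
  obtain ⟨hxv, hxm⟩ := valid_mem hx hx23
  obtain ⟨hyv, hym⟩ := valid_mem hy hy23
  let x : Spor.M23 := ⟨toPerm W.x, hxm⟩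
  let y : Spor.M23 := ⟨toPerm W.y, hym⟩
  refine ⟨x, y, (x * y)⁻¹, ?_, ?_, ?_, mul_inv_cancel _, ?_⟩
  · rw [← Subgroup.orderOf_coe]; exact order_of_check hp hxv hx1 hxp
  · rw [← Subgroup.orderOf_coe]; exact order_of_check hq hyv hy1 hyq
  · rw [orderOf_inv, ← Subgroup.orderOf_coe]
    show orderOf (toPerm W.x * toPerm W.y) = W.r
    rw [← toPerm_mulP hxv hyv]
    exact order_of_check hr (validP_mulP hxv hyv) hz1 hzr
  · set H := (Subgroup.closure {x, y}).map Spor.M23.subtype with hH
    have hl : ∀ P ∈ [W.x, W.y], validP P = true ∧ toPerm P ∈ H := by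
      intro P hP
      simp only [List.mem_cons, List.not_mem_nil, or_false] at hP
      rcases hP with rfl | rfl
      · exact ⟨hxv, x, Subgroup.subset_closure (Or.inl rfl), rfl⟩
      · exact ⟨hyv, y, Subgroup.subset_closure (Or.inr rfl), rfl⟩
    have hbv : ∀ P ∈ base, validP P = true := by decide +kernel
    have htop : H = Spor.M23 := by
      refine eq_of_base (Subgroup.map_subtype_le _) fun P hP => ?_
      have key : ∀ w, (∀ k ∈ w, k < 2) → validP P = true → eqP (wordP [W.x, W.y] w) P = true →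
          toPerm P ∈ H := by
        intro w hw hv he
        obtain ⟨g1, g2⟩ := wordP_spec [W.x, W.y] (fun R hR => (hl R hR).1) (fun R hR => (hl R hR).2) w
          (by simpa using hw)
        rw [← toPerm_eq_of_eqP g1 hv he]; exact g2
      obtain ⟨i, hi, rfl⟩ := List.getElem_of_mem hP
      have hi2 : base.length = 2 := by decide +kernel
      obtain rfl | rfl : i = 0 ∨ i = 1 := by omega
      · refine key W.wa hwa (hbv _ (List.getElem_mem hi)) ?_
        rw [List.getD_eq_getElem _ _ hi] at hea; exact hea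
      · refine key W.wb hwb (hbv _ (List.getElem_mem hi)) ?_
        rw [List.getD_eq_getElem _ _ hi] at heb; exact heb
    refine Subgroup.map_injective (Subgroup.subtype_injective _) ?_
    rw [← hH, htop, ← MonoidHom.range_eq_map, Subgroup.range_subtype]

theorem card_pts : Fintype.card GolayPt = 24 := by
  simp [GolayPt, Fintype.card_option, ZMod.card]

/-- the bound on the rank of an element of each prime order -/
def rankBound (p : ℕ) : ℕ :=
  if p = 2 then 8 else if p = 3 then 12 else if p = 5 then 16 else if p = 7 then 18 else 22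

theorem rank_bound {g : Equiv.Perm GolayPt} (hg : g ∈ Spor.M23) {p : ℕ}
    (hpm : p ∈ primes) (ho : orderOf g = p) :
    Module.finrank ℚ (LinearMap.range (dif g)) ≤ rankBound p := by
  classical
  haveI : Fact p.Prime := ⟨(by decide +kernel : ∀ p ∈ primes, Nat.Prime p) p hpm⟩
  have h := rank_le ho
  rw [card_pts] at h
  have h24 : g ∈ M24 := (Subgroup.mem_inf.1 hg).1
  have hfix : g none = none := MulAction.mem_stabilizer_iff.1 (Subgroup.mem_inf.1 hg).2
  have hF : (Finset.univ.filter fun a => g a = a) = fixSet g := rfl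
  rw [hF] at h
  have hmod : (fixSet g).card ≡ 24 [MOD p] := by
    have hmod := Equiv.Perm.card_compl_support_modEq (p := p) (σ := g) (n := 1)
      (by rw [pow_one, ← ho]; exact pow_orderOf_eq_one g)
    have hc : g.supportᶜ = fixSet g := by
      ext a; simp [Classes.mem_fixSet]
    rwa [hc, card_pts] at hmod
  simp only [primes, List.mem_cons, List.not_mem_nil, or_false] at hpm
  rcases hpm with rfl | rfl | rfl | rfl | rfl | rfl
  · rcases Classes.fixSet_two h24 ho with h1 | h1
    · rw [h1] at h; simp only [rankBound]; norm_num; omega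
    · exact absurd hfix (h1 none)
  · rcases Classes.fixSet_three h24 ho with h1 | h1
    · rw [h1] at h; simp only [rankBound]; norm_num; omega
    · have : none ∈ fixSet g := Classes.mem_fixSet.2 hfix
      rw [Finset.card_eq_zero.1 h1] at this
      simp at this
  all_goals
    rw [Nat.ModEq] at hmod
    simp only [rankBound]; norm_num
    have hle : Module.finrank ℚ (LinearMap.range (dif g)) * 1 ≤ 23 := by omega
    omega

theorem transitive (a b : GolayPt) (ha : a ≠ none) (hb : b ≠ none) :
    ∃ g ∈ Spor.M23, g a = b := by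
  have key : ∀ c : GolayPt, c ≠ none → ∃ g ∈ Spor.M23, g (pt 0) = c := by
    intro c hc
    have hC : Carries M24 [] (⟨0, [], [976525015608564889112140704549765238]⟩ : Lev).gens := by
      refine carries24 _ ?_
      simp [levs24]
    have hL : (⟨0, [], [976525015608564889112140704549765238]⟩ : Lev).ok [] F23 = true := by
      decide +kernel
    have hmem : c ∈ dec (atom F23 ([] : List ℕ) 0) := by
      have : ∀ q : GolayPt, q ≠ none → q ∈ dec (atom F23 ([] : List ℕ) 0) := by decide +kernel
      exact this c hc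
    obtain ⟨g, hg, hgc⟩ := (orbit_level hC hL c).2 hmem
    exact ⟨g, m23_eq ▸ hg, hgc⟩
  obtain ⟨g, hg, hga⟩ := key a ha
  obtain ⟨k, hk, hkb⟩ := key b hb
  exact ⟨k * g⁻¹, mul_mem hk (inv_mem hg), by
    rw [← hga, Equiv.Perm.mul_apply, Equiv.Perm.inv_def, Equiv.symm_apply_apply, hkb]⟩

theorem no_triple {p q r : ℕ} (hpm : p ∈ primes) (hqm : q ∈ primes) (hrm : r ∈ primes)
    (hex : excluded p q r = true) (hpq : p ≤ q) (hqr : q ≤ r)
    {x y z : Spor.M23} (hx : orderOf x = p) (hy : orderOf y = q) (hz : orderOf z = r)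
    (hxyz : x * y * z = 1) (hgen : Subgroup.closure ({x, y} : Set Spor.M23) = ⊤) : False := by
  have hc : Subgroup.closure ({(x : Equiv.Perm GolayPt), (y : Equiv.Perm GolayPt)} : Set _) = Spor.M23 := by
    have h := congrArg (Subgroup.map Spor.M23.subtype) hgen
    rw [MonoidHom.map_closure, ← MonoidHom.range_eq_map, Subgroup.range_subtype, Set.image_pair] at h
    exact h
  have h := scott (x := (x : Equiv.Perm GolayPt)) (y := y) (z := z) (congrArg Subtype.val hxyz) none
    (m := 22) card_pts (fun a b ha hb => by rw [hc]; exact transitive a b ha hb)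
  rw [← Subgroup.orderOf_coe] at hx hy hz
  have h1 := rank_bound x.2 hpm hx
  have h2 := rank_bound y.2 hqm hy
  have h3 := rank_bound z.2 hrm hz
  have key : ∀ a ∈ primes, ∀ b ∈ primes, ∀ c ∈ primes, a ≤ b → b ≤ c → excluded a b c = true →
      rankBound a + rankBound b + rankBound c < 44 := by decide +kernel
  have := key p hpm q hqm r hrm hpq hqr hex
  omega

end CfsgLib.Golay.TripleGen
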